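import Cfsg.Agent.H57.SpSix.Stem

/-! A double cover of the simple quotient of `W(E₇)` from a Clifford representation. -/

namespace H57.SpSix

open CoxeterMatrix
open scoped commutatorElement

/-- Spin lifts of the simple reflections. -/
structure Spin (Δ : Type*) [Group Δ] where
  a : Fin 7 → Δ
  z : Δ
  hz1 : z ≠ 1
  hz2 : z * z = 1
  hzc : ∀ d, d * z = z * d
  hs : ∀ i, a i * a i = z
  hc : ∀ i j, cm i j = 2 → a i * a j = z * (a j * a i)
  hb : ∀ i j, cm i j = 3 → a i * a j * a i = a j * a i * a j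
  hlong : cox a ^ 9 = 1 ∨ cox a ^ 9 = z

variable {S : Type*} [Group S] (D : Pres S) {Δ : Type*} [Group Δ] [Finite Δ] [Finite S]
  (P : Spin Δ)

theorem zpowers_pair {G : Type*} [Group G] {z : G} (h : z * z = 1) {g : G}
    (hg : g ∈ Subgroup.zpowers z) : g = 1 ∨ g = z := by
  obtain ⟨n, rfl⟩ := Subgroup.mem_zpowers_iff.1 hg
  have h2 : z ^ (2 : ℤ) = 1 := by rw [zpow_two, h]
  rcases Int.even_or_odd' n with ⟨k, rfl | rfl⟩
  · left; rw [zpow_mul, h2, one_zpow]
  · right; rw [zpow_add, zpow_mul, h2, one_zpow, one_mul, zpow_one]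

include D P in
/-- A stem extension with kernel of order two. -/
theorem exists_cover :
    ∃ (E : Subgroup (Δ × S)) (σ : E →* S), Cfsg.IsStemExtension σ ∧ Nat.card σ.ker = 2 := by
  classical
  let zz : Δ × S := (P.z, 1)
  have hzz : zz * zz = 1 := Prod.ext P.hz2 (mul_one 1)
  have hzc : ∀ g : Δ × S, g * zz = zz * g := fun g =>
    Prod.ext (P.hzc g.1) ((mul_one g.2).trans (one_mul g.2).symm)
  let Z : Subgroup (Δ × S) := Subgroup.zpowers zz
  have hZc : Z ≤ Subgroup.center (Δ × S) :=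
    Subgroup.zpowers_le.2 (Subgroup.mem_center_iff.2 hzc)
  haveI : Z.Normal := ⟨fun n hn g => by
    rw [Subgroup.mem_center_iff.1 (hZc hn) g, mul_inv_cancel_right]; exact hn⟩
  let q := QuotientGroup.mk' Z
  let y : Fin 7 → Δ × S := fun i => (P.a i, D.t i)
  have qz : q zz = 1 := (QuotientGroup.eq_one_iff _).2 (Subgroup.mem_zpowers zz)
  have hys : ∀ i, q (y i) * q (y i) = 1 := fun i => by
    rw [← map_mul, show y i * y i = zz from Prod.ext (P.hs i) (D.hs i), qz]
  have hyc : ∀ i j, cm i j = 2 → q (y i) * q (y j) = q (y j) * q (y i) := fun i j h => by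
    rw [← map_mul, ← map_mul, show y i * y j = zz * (y j * y i) from
      Prod.ext (P.hc i j h) ((D.hc i j h).trans (one_mul _).symm), map_mul, qz, one_mul]
  have hyb : ∀ i j, cm i j = 3 → q (y i) * q (y j) * q (y i) = q (y j) * q (y i) * q (y j) :=
    fun i j h => by
    simp only [← map_mul]
    exact congrArg q (Prod.ext (P.hb i j h) (D.hb i j h))
  let ψ : W →* (Δ × S) ⧸ Z := liftW (fun i => q (y i)) (liftable hys hyc hyb)
  have hψ : ∀ i, ψ (s i) = q (y i) := fun i => liftW_simple _ _ _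
  let E : Subgroup (Δ × S) := ψ.range.comap q
  let σ : E →* S := (MonoidHom.snd Δ S).comp E.subtype
  have hyE : ∀ i, y i ∈ E := fun i => ⟨s i, hψ i⟩
  let τ : (Δ × S) ⧸ Z →* S := QuotientGroup.lift Z (MonoidHom.snd Δ S)
    (Subgroup.zpowers_le.2 (MonoidHom.mem_ker.2 rfl))
  have hτψ : ∀ w, τ (ψ w) = D.phi w := fun w =>
    DFunLike.congr_fun (hom_ext (f := τ.comp ψ) (g := D.phi) fun i => by
      show τ (ψ (s i)) = D.phi (s i)
      rw [hψ i, D.phi_simple]
      rfl) w
  have hψl : ψ longest = 1 := by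
    rw [longest, map_pow, map_cox, funext hψ, ← map_cox q, ← map_pow, QuotientGroup.mk'_apply,
      QuotientGroup.eq_one_iff]
    have e1 : (cox y ^ 9).1 = cox P.a ^ 9 := by
      rw [← MonoidHom.coe_fst, map_pow, map_cox]; rfl
    have e2 : (cox y ^ 9).2 = 1 := by
      rw [← MonoidHom.coe_snd, map_pow, map_cox]; exact D.hlong
    rcases P.hlong with h | h
    · rw [show cox y ^ 9 = 1 from Prod.ext (e1.trans h) e2]; exact one_mem _
    · rw [show cox y ^ 9 = zz from Prod.ext (e1.trans h) e2]; exact Subgroup.mem_zpowers _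
  have hker : ∀ e : E, σ e = 1 → (e : Δ × S) ∈ Z := by
    rintro ⟨e, w, hw⟩ he
    have hphi : D.phi w = 1 := by rw [← hτψ w, hw]; exact he
    have hq : q e = 1 := by
      rw [← hw]
      rcases D.ker_cases hphi with h | h <;> rw [h]
      · exact map_one ψ
      · exact hψl
    exact (QuotientGroup.eq_one_iff e).1 hq
  have hzE : zz ∈ E := ⟨1, by rw [map_one, qz]⟩
  have hkerEq : σ.ker = Z.subgroupOf E := by
    refine le_antisymm (fun e he => Subgroup.mem_subgroupOf.2 (hker e (MonoidHom.mem_ker.1 he))) ?_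
    intro e he
    rcases zpowers_pair hzz (Subgroup.mem_subgroupOf.1 he) with h | h <;>
      exact MonoidHom.mem_ker.2 (congrArg Prod.snd h)
  refine ⟨E, σ, ⟨?_, ?_, ?_⟩, ?_⟩
  · rw [← MonoidHom.range_eq_top, eq_top_iff, ← D.hgen, Subgroup.closure_le]
    rintro _ ⟨i, rfl⟩
    exact ⟨⟨y i, hyE i⟩, rfl⟩
  · intro e he
    rw [hkerEq, Subgroup.mem_subgroupOf] at he
    exact Subgroup.mem_center_iff.2 fun g => Subtype.ext (Subgroup.mem_center_iff.1 (hZc he) g)
  · rw [hkerEq]
    intro e he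
    rw [Subgroup.mem_subgroupOf] at he
    rcases zpowers_pair hzz he with h | h
    · rw [show e = 1 from Subtype.ext h]; exact one_mem _
    · have hcm : cm 0 1 = 2 := by decide
      have he2 : e = ⁅(⟨y 0, hyE 0⟩ : E), ⟨y 1, hyE 1⟩⁆ := by
        refine Subtype.ext (h.trans ?_)
        show zz = ⁅y 0, y 1⁆
        refine Prod.ext ?_ ?_
        · show P.z = ⁅P.a 0, P.a 1⁆
          rw [commutatorElement_def, P.hc 0 1 hcm]
          group
        · show (1 : S) = ⁅D.t 0, D.t 1⁆
          exact (commutatorElement_eq_one_iff_commute.2 (D.hc 0 1 hcm)).symm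
      rw [he2, commutator_def]
      exact Subgroup.commutator_mem_commutator (Subgroup.mem_top _) (Subgroup.mem_top _)
  · rw [hkerEq, Nat.card_congr (Subgroup.subgroupOfEquivOfLe (Subgroup.zpowers_le.2 hzE)).toEquiv,
      Nat.card_zpowers]
    exact orderOf_eq_prime (by rw [sq, hzz]) fun e => P.hz1 (congrArg Prod.fst e)

end H57.SpSix
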