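import Mathlib
import Cfsg.Prelude.Def_KGroupFacts
import Cfsg.Agent.H53.WeylE7

/-! Stem extensions of the simple quotient of `W(E₇)`. -/

namespace H57.SpSix

open CoxeterMatrix
open scoped commutatorElement

/-- The Weyl group of type `E₇`. -/
abbrev W := CoxeterMatrix.E₇.Group

theorem natCard_W : Nat.card W = 2903040 := H53.e7Weyl_card

instance : Finite W := Nat.finite_of_card_ne_zero (by rw [natCard_W]; decide)

/-- The simple reflection. -/
abbrev s (i : Fin 7) : W := CoxeterMatrix.E₇.simple i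

/-- The Coxeter matrix as a plain function. -/
def cm (i j : Fin 7) : ℕ := CoxeterMatrix.E₇ i j

/-- The word `s₀ s₁ ⋯ s₆`. -/
def cox {M : Type*} [Monoid M] (t : Fin 7 → M) : M := ((List.finRange 7).map t).prod

theorem map_cox {M N : Type*} [Monoid M] [Monoid N] (f : M →* N) (t : Fin 7 → M) :
    f (cox t) = cox fun i => f (t i) := by
  rw [cox, map_list_prod, List.map_map]; rfl

theorem liftable {M : Type*} [Monoid M] {t : Fin 7 → M}
    (hs : ∀ i, t i * t i = 1) (hc : ∀ i j, cm i j = 2 → t i * t j = t j * t i)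
    (hb : ∀ i j, cm i j = 3 → t i * t j * t i = t j * t i * t j) : E₇.IsLiftable t := by
  intro i j
  have hM : ∀ i j : Fin 7, cm i j = 1 ∧ i = j ∨ cm i j = 2 ∨ cm i j = 3 := by decide
  show (t i * t j) ^ cm i j = 1
  rcases hM i j with ⟨h, rfl⟩ | h | h <;> rw [h]
  · rw [pow_one, hs]
  · rw [pow_two, mul_assoc, ← mul_assoc (t j), ← hc i j h, mul_assoc, hs, mul_one, hs]
  · rw [pow_succ, pow_two]
    calc t i * t j * (t i * t j) * (t i * t j) = (t i * t j * t i) * (t j * t i * t j) := by
          simp only [mul_assoc]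
      _ = (t j * t i * t j) * (t j * t i * t j) := by rw [hb i j h]
      _ = t j * t i * (t j * t j) * (t i * t j) := by simp only [mul_assoc]
      _ = t j * (t i * t i) * t j := by rw [hs, mul_one]; simp only [mul_assoc]
      _ = 1 := by rw [hs, mul_one, hs]

/-- Maps out of the Weyl group. -/
noncomputable def liftW {M : Type*} [Monoid M] (t : Fin 7 → M) (h : E₇.IsLiftable t) : W →* M :=
  E₇.toCoxeterSystem.lift ⟨t, h⟩

theorem liftW_simple {M : Type*} [Monoid M] (t : Fin 7 → M) (h : E₇.IsLiftable t) (i : Fin 7) :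
    liftW t h (s i) = t i := by
  rw [liftW, s, ← E₇.toCoxeterSystem_simple, CoxeterSystem.lift_apply_simple]

theorem hom_ext {M : Type*} [Monoid M] {f g : W →* M} (h : ∀ i, f (s i) = g (s i)) : f = g :=
  E₇.toCoxeterSystem.ext_simple fun i => by rw [E₇.toCoxeterSystem_simple]; exact h i

/-- The sign character. -/
noncomputable def sgnHom : W →* ℤˣ :=
  liftW (fun _ => (-1 : ℤˣ)) (liftable (fun _ => by simp) (fun _ _ _ => rfl) fun _ _ _ => rfl)

theorem sgnHom_simple (i : Fin 7) : sgnHom (s i) = -1 := liftW_simple _ _ _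

/-- The longest element. -/
noncomputable def longest : W := cox s ^ 9

theorem sgnHom_longest : sgnHom longest = -1 := by
  rw [longest, map_pow, map_cox, funext sgnHom_simple]
  decide

/-- A presentation of the simple quotient. -/
structure Pres (S : Type*) [Group S] where
  t : Fin 7 → S
  hs : ∀ i, t i * t i = 1
  hc : ∀ i j, cm i j = 2 → t i * t j = t j * t i
  hb : ∀ i j, cm i j = 3 → t i * t j * t i = t j * t i * t j
  hgen : Subgroup.closure (Set.range t) = ⊤
  hperf : commutator S = ⊤
  hcard : Nat.card S = 1451520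
  hlong : cox t ^ 9 = 1

namespace Pres

variable {S : Type*} [Group S] (D : Pres S)

/-- The map from the Weyl group. -/
noncomputable def phi : W →* S := liftW D.t (liftable D.hs D.hc D.hb)

theorem phi_simple (i : Fin 7) : D.phi (s i) = D.t i := liftW_simple _ _ _

theorem phi_surjective : Function.Surjective D.phi := by
  rw [← MonoidHom.range_eq_top, eq_top_iff, ← D.hgen, Subgroup.closure_le]
  rintro _ ⟨i, rfl⟩
  exact ⟨s i, D.phi_simple i⟩

theorem phi_longest : D.phi longest = 1 := by
  rw [longest, map_pow, map_cox, funext D.phi_simple]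
  exact D.hlong

theorem ker_cases {w : W} (hw : D.phi w = 1) : w = 1 ∨ w = longest := by
  have h2 : Nat.card D.phi.ker = 2 := by
    have := D.phi.ker.card_mul_index
    rw [Subgroup.index_ker, MonoidHom.range_eq_top.2 D.phi_surjective, Subgroup.card_top, D.hcard,
      natCard_W] at this
    omega
  have hne : longest ≠ 1 := fun e => by
    have h := sgnHom_longest
    rw [e, map_one] at h
    exact absurd h (by decide)
  let a : D.phi.ker := ⟨longest, MonoidHom.mem_ker.2 D.phi_longest⟩
  obtain ⟨x, hx, huniq⟩ := (Nat.card_eq_two_iff' (1 : D.phi.ker)).1 h2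
  by_contra hcon
  push Not at hcon
  have e1 := huniq a (fun e => hne (congrArg (fun q : D.phi.ker => (q : W)) e))
  have e2 := huniq ⟨w, MonoidHom.mem_ker.2 hw⟩ (fun e => hcon.1 (congrArg Subtype.val e))
  exact hcon.2 (congrArg Subtype.val (e2.trans e1.symm))

theorem eq_one_of_even {w : W} (hs' : sgnHom w = 1) (hw : D.phi w = 1) : w = 1 := by
  rcases D.ker_cases hw with h | h
  · exact h
  · rw [h, sgnHom_longest] at hs'
    exact absurd hs' (by decide)

end Pres

theorem commutator_eq_of_central {G : Type*} [Group G] {a b k l : G}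
    (hk : ∀ g, g * k = k * g) (hl : ∀ g, g * l = l * g) : ⁅a * k, b * l⁆ = ⁅a, b⁆ := by
  have hk' : ∀ g, g * k⁻¹ = k⁻¹ * g := fun g =>
    (show Commute g k from hk g).inv_right.eq
  have hl' : ∀ g, g * l⁻¹ = l⁻¹ * g := fun g =>
    (show Commute g l from hl g).inv_right.eq
  simp only [commutatorElement_def, mul_inv_rev]
  calc a * k * (b * l) * (k⁻¹ * a⁻¹) * (l⁻¹ * b⁻¹)
      = a * (k * (b * l)) * (k⁻¹ * a⁻¹) * (l⁻¹ * b⁻¹) := by simp only [mul_assoc]
    _ = a * (b * l) * (k * k⁻¹) * a⁻¹ * (l⁻¹ * b⁻¹) := by rw [← hk]; simp only [mul_assoc]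
    _ = a * b * (l * a⁻¹) * (l⁻¹ * b⁻¹) := by rw [mul_inv_cancel, mul_one]; simp only [mul_assoc]
    _ = a * b * a⁻¹ * (l * l⁻¹) * b⁻¹ := by rw [← hl]; simp only [mul_assoc]
    _ = a * b * a⁻¹ * b⁻¹ := by rw [mul_inv_cancel, mul_one]

end H57.SpSix
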