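import Cfsg.Agent.H57.SpSix.Coxeter

/-! Data: symplectic vectors, orbit and Clifford matrices for `E₇`. -/

namespace H57.SpSix

/-- The seven transvection centres. -/
def vecs : Fin 7 → (Fin 3 ⊕ Fin 3 → ZMod 2) :=
  ![Sum.elim ![0,0,0] ![0,0,1],
    Sum.elim ![0,0,0] ![0,1,0],
    Sum.elim ![0,0,1] ![0,0,0],
    Sum.elim ![0,1,0] ![0,0,1],
    Sum.elim ![0,0,0] ![1,1,0],
    Sum.elim ![1,0,0] ![0,0,0],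
    Sum.elim ![0,0,0] ![1,0,0]]

/-- Codes of the 63 non-zero vectors in orbit order, with the generator and the parent position. -/
def orbitTab : List (ℕ × Fin 7 × ℕ) := [
  (32, 0, 0), (36, 2, 0), (4, 0, 1), (6, 3, 1), (38, 3, 2), (22, 1, 3),
  (30, 4, 3), (54, 1, 4), (34, 2, 4), (62, 4, 4), (14, 4, 5), (31, 5, 6),
  (50, 2, 7), (46, 4, 7), (58, 4, 8), (63, 5, 9), (44, 3, 10), (15, 5, 10),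
  (23, 6, 11), (16, 3, 12), (42, 4, 12), (12, 3, 13), (47, 5, 13), (24, 3, 14),
  (59, 5, 14), (55, 6, 15), (40, 2, 16), (45, 5, 16), (7, 6, 17), (43, 5, 20),
  (13, 5, 21), (39, 6, 22), (25, 5, 23), (51, 6, 24), (41, 5, 26), (53, 4, 27),
  (37, 6, 27), (35, 6, 29), (21, 4, 30), (5, 6, 30), (1, 4, 32), (17, 6, 32),
  (49, 4, 34), (33, 6, 34), (61, 6, 35), (29, 6, 38), (9, 6, 40), (19, 3, 42),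
  (57, 6, 42), (60, 5, 44), (28, 5, 45), (8, 5, 46), (3, 1, 47), (27, 6, 47),
  (56, 5, 48), (11, 6, 52), (26, 5, 53), (10, 5, 55), (2, 4, 56), (18, 4, 57),
  (48, 3, 59), (52, 2, 60), (20, 0, 61)]

/-- The Clifford images of the simple roots. -/
def spinMat : Fin 7 → Matrix (Fin 8) (Fin 8) (ZMod 3) :=
  ![
    !![0,0,0,0,0,2,0,0;0,0,0,0,2,0,0,0;0,0,0,0,0,0,0,1;0,0,0,0,0,0,1,0;0,1,0,0,0,0,0,0;1,0,0,0,0,0,0,0;0,0,0,2,0,0,0,0;0,0,2,0,0,0,0,0],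
    !![0,0,0,0,0,0,0,2;0,0,0,0,0,0,2,0;0,0,0,0,0,2,0,0;0,0,0,0,2,0,0,0;0,0,0,1,0,0,0,0;0,0,1,0,0,0,0,0;0,1,0,0,0,0,0,0;1,0,0,0,0,0,0,0],
    !![0,0,2,0,2,2,2,0;0,0,0,1,2,1,0,1;1,0,0,0,1,0,2,1;0,2,0,0,0,2,1,1;1,1,2,0,0,0,1,0;1,2,0,1,0,0,0,2;1,0,1,2,2,0,0,0;0,2,2,2,0,1,0,0],
    !![0,0,2,0,1,0,2,2;0,0,0,1,0,2,2,1;1,0,0,0,1,2,1,0;0,2,0,0,2,2,0,2;2,0,2,1,0,0,1,0;0,1,1,1,0,0,0,2;1,1,2,0,2,0,0,0;1,2,0,1,0,1,0,0],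
    !![0,0,2,2,2,0,2,0;0,0,2,1,0,1,0,1;1,1,0,0,1,0,2,0;1,2,0,0,0,2,0,1;1,0,2,0,0,0,1,2;0,2,0,1,0,0,2,2;1,0,1,0,2,1,0,0;0,2,0,2,1,1,0,0],
    !![0,2,1,2,0,0,2,0;1,0,2,2,0,0,0,1;2,1,0,2,1,0,0,0;1,1,1,0,0,2,0,0;0,0,2,0,0,2,2,2;0,0,0,1,1,0,2,1;1,0,0,0,1,1,0,2;0,2,0,0,1,2,1,0],
    !![0,2,0,0,0,0,0,0;1,0,0,0,0,0,0,0;0,0,0,2,0,0,0,0;0,0,1,0,0,0,0,0;0,0,0,0,0,2,0,0;0,0,0,0,1,0,0,0;0,0,0,0,0,0,0,2;0,0,0,0,0,0,1,0]]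

end H57.SpSix
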