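import Cfsg.Agent.H57.SpSix.Data
import Cfsg.Agent.H57.SpSix.Cover
import Cfsg.Agent.H48.Count
import Cfsg.Agent.H48.Simple
import Cfsg.Agent.H50.SpMultiplier

/-! `Sp₆(2)` as quotient of `W(E₇)`, and the spin lifts. -/

namespace H57.SpSix

open Matrix

/-- `Sp₆(2)` over `ZMod 2`. -/
abbrev S2 := Matrix.symplecticGroup (Fin 3) (ZMod 2)

/-- The transvections. -/
def t2 (i : Fin 7) : S2 := H48.tv (vecs i) 1

/-- The matrices of the transvections. -/
def tm (i : Fin 7) : Matrix (Fin 3 ⊕ Fin 3) (Fin 3 ⊕ Fin 3) (ZMod 2) := (t2 i).1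

theorem t2_mat : ∀ i j : Fin 7,
    tm i * tm i = 1 ∧
    (cm i j = 2 → tm i * tm j = tm j * tm i) ∧
    (cm i j = 3 → tm i * tm j * tm i = tm j * tm i * tm j) := by
  decide +kernel

theorem t2_long : cox tm ^ 9 = 1 := by
  decide +kernel

/-- Decoding a vector. -/
def decode (c : ℕ) : Fin 3 ⊕ Fin 3 → ZMod 2 :=
  Sum.elim (fun i => ((c / 2 ^ i.1 % 2 : ℕ) : ZMod 2)) fun i => ((c / 2 ^ (i.1 + 3) % 2 : ℕ) : ZMod 2)

theorem orbit_ok : ∀ k : Fin 63,
    let r := orbitTab.getD k.1 (0, 0, 0)
    (k.1 = 0 ∧ decode r.1 = vecs 0) ∨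
      (r.2.2 < k.1 ∧
        tm r.2.1 *ᵥ decode (orbitTab.getD r.2.2 (0, 0, 0)).1 = decode r.1) := by
  decide +kernel

theorem orbit_cover : ∀ v : Fin 3 ⊕ Fin 3 → ZMod 2,
    v = 0 ∨ ∃ k : Fin 63, decode (orbitTab.getD k.1 (0, 0, 0)).1 = v := by
  decide +kernel

theorem t2_generate : Subgroup.closure (Set.range t2) = ⊤ := by
  set T := Subgroup.closure (Set.range t2) with hT
  have ht : ∀ i, t2 i ∈ T := fun i => Subgroup.subset_closure ⟨i, rfl⟩
  have horb : ∀ n (h : n < 63), H48.tv (decode (orbitTab.getD n (0, 0, 0)).1) 1 ∈ T := by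
    intro n
    induction n using Nat.strong_induction_on with
    | _ n ih =>
      intro h
      rcases orbit_ok ⟨n, h⟩ with ⟨-, e⟩ | ⟨hlt, e⟩
      · simp only at e; rw [e]; exact ht 0
      · simp only at e hlt
        rw [← e, tm, ← H48.spSmulDef, ← H48.tv_conj]
        exact mul_mem (mul_mem (ht _) (ih _ hlt (hlt.trans h))) (inv_mem (ht _))
  rw [eq_top_iff, ← H48.transGroup_eq_top, H48.transGroup, H48.transSet_eq, Subgroup.closure_le]
  rintro A ⟨w, c, rfl⟩
  have hz : ∀ c : ZMod 2, c = 0 ∨ c = 1 := by decide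
  have htriv : ∀ (w : Fin 3 ⊕ Fin 3 → ZMod 2) (c : ZMod 2), w = 0 ∨ c = 0 → H48.tv w c ∈ T := by
    intro w c h
    have : H48.tv w c = 1 := H48.sp_ext fun x => by
      rcases h with rfl | rfl <;> simp
    rw [this]; exact one_mem _
  rcases hz c with rfl | rfl
  · exact htriv _ _ (.inr rfl)
  rcases orbit_cover w with hw | ⟨k, rfl⟩
  · exact htriv _ _ (.inl hw)
  · exact horb _ k.2

/-- The unique map `ZMod 2 →+* F` in characteristic two. -/
theorem exists_presentation {F : Type*} [Field F] [Fintype F] (hF : Fintype.card F = 2) :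
    Nonempty (Pres (Cfsg.PSp 3 F)) := by
  classical
  let e : ZMod 2 ≃+* F := ZMod.ringEquivOfPrime F Nat.prime_two hF
  have hJ : (Matrix.J (Fin 3) (ZMod 2)).map e = Matrix.J (Fin 3) F := by
    rw [Matrix.J, Matrix.J, Matrix.fromBlocks_map]
    have h0 : (0 : Matrix (Fin 3) (Fin 3) (ZMod 2)).map e = 0 := Matrix.map_zero e (map_zero e)
    have h1 : (1 : Matrix (Fin 3) (Fin 3) (ZMod 2)).map e = 1 :=
      Matrix.map_one e (map_zero e) (map_one e)
    have hm : (-1 : Matrix (Fin 3) (Fin 3) (ZMod 2)).map e = -1 :=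
      (map_neg e.toRingHom.mapMatrix 1).trans (congrArg Neg.neg h1)
    rw [h0, h1, hm]
  let h : S2 →* Matrix.symplecticGroup (Fin 3) F :=
    { toFun := fun A => ⟨(A : Matrix _ _ (ZMod 2)).map e, by
        rw [SymplecticGroup.mem_iff, ← hJ, ← Matrix.transpose_map]
        have := congrArg (fun M => e.toRingHom.mapMatrix M) (SymplecticGroup.mem_iff.1 A.2)
        simp only [map_mul] at this
        exact this⟩
      map_one' := Subtype.ext (Matrix.map_one e (map_zero e) (map_one e))
      map_mul' := fun A B => Subtype.ext (map_mul e.toRingHom.mapMatrix _ _) }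
  have hcardF : Nat.card (Matrix.symplecticGroup (Fin 3) F) = 1451520 := by
    rw [H48.card_sp, hF, Fintype.card_fin]
    simp [Finset.prod_range_succ]
  have hcard2 : Nat.card S2 = 1451520 := by
    rw [H48.card_sp, ZMod.card, Fintype.card_fin]
    simp [Finset.prod_range_succ]
  have hinj : Function.Injective h := fun A B hAB =>
    Subtype.ext (Matrix.map_injective e.injective (congrArg Subtype.val hAB))
  have hsurj : Function.Surjective h :=
    ((Nat.bijective_iff_injective_and_card h).2 ⟨hinj, hcard2.trans hcardF.symm⟩).2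
  let π := (QuotientGroup.mk' (Subgroup.center (Matrix.symplecticGroup (Fin 3) F))).comp h
  have hπ : Function.Surjective π := (QuotientGroup.mk'_surjective _).comp hsurj
  have hz1 : Nat.card (Subgroup.center (Matrix.symplecticGroup (Fin 3) F)) = 1 := by
    rw [H50.SpMult.card_center (by norm_num), hF]
    rfl
  refine ⟨{ t := fun i => π (t2 i), hs := ?_, hc := ?_, hb := ?_, hgen := ?_, hperf := ?_, hcard := ?_, hlong := ?_ }⟩
  · intro i
    rw [← map_mul, show t2 i * t2 i = 1 from Subtype.ext (t2_mat i i).1, map_one]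
  · intro i j hij
    rw [← map_mul, ← map_mul, show t2 i * t2 j = t2 j * t2 i from Subtype.ext ((t2_mat i j).2.1 hij)]
  · intro i j hij
    simp only [← map_mul]
    rw [show t2 i * t2 j * t2 i = t2 j * t2 i * t2 j from Subtype.ext ((t2_mat i j).2.2 hij)]
  · rw [show (fun i => π (t2 i)) = π ∘ t2 from rfl, Set.range_comp, ← MonoidHom.map_closure, t2_generate,
      Subgroup.map_top_of_surjective π hπ]
  · have hp : commutator (Matrix.symplecticGroup (Fin 3) F) = ⊤ :=
      H48.perfect (Or.inl (by simp))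
    rw [commutator_def, ← Subgroup.map_top_of_surjective
      (QuotientGroup.mk' (Subgroup.center (Matrix.symplecticGroup (Fin 3) F))) (QuotientGroup.mk'_surjective _),
      ← Subgroup.map_commutator, ← commutator_def, hp]
  · have := (Subgroup.center (Matrix.symplecticGroup (Fin 3) F)).card_eq_card_quotient_mul_card_subgroup
    rw [hz1, mul_one, hcardF] at this
    exact this.symm
  · show cox (fun i => π (t2 i)) ^ 9 = 1
    rw [← map_cox π, ← map_pow]
    have hv : cox t2 ^ 9 = 1 := by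
      refine Subtype.ext ?_
      show ((cox t2 ^ 9 : S2) : Matrix (Fin 3 ⊕ Fin 3) (Fin 3 ⊕ Fin 3) (ZMod 2)) = 1
      rw [SubmonoidClass.coe_pow, cox, SubmonoidClass.coe_list_prod, List.map_map]
      exact t2_long
    rw [hv, map_one]

theorem spin_mat : ∀ i j : Fin 7, spinMat i * spinMat i = -1 ∧
    (cm i j = 2 → spinMat i * spinMat j = -(spinMat j * spinMat i)) ∧
    (cm i j = 3 → spinMat i * spinMat j * spinMat i = spinMat j * spinMat i * spinMat j) := by
  decide +kernel

theorem spin_long : cox spinMat ^ 9 = 1 ∨ cox spinMat ^ 9 = -1 := by decide +kernel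

/-- The spin lifts as units. -/
def spinUnit (i : Fin 7) : (Matrix (Fin 8) (Fin 8) (ZMod 3))ˣ where
  val := spinMat i
  inv := - spinMat i
  val_inv := by rw [mul_neg, (spin_mat i i).1, neg_neg]
  inv_val := by rw [neg_mul, (spin_mat i i).1, neg_neg]

/-- The spin data. -/
def spin : Spin (Matrix (Fin 8) (Fin 8) (ZMod 3))ˣ where
  a := spinUnit
  z := -1
  hz1 := fun h => absurd (congrArg Units.val h) (by decide +kernel)
  hz2 := by simp
  hzc := fun d => by simp
  hs := fun i => Units.ext (spin_mat i i).1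
  hc := fun i j h => Units.ext (by
    show spinMat i * spinMat j = -1 * (spinMat j * spinMat i)
    rw [neg_one_mul]; exact (spin_mat i j).2.1 h)
  hb := fun i j h => Units.ext ((spin_mat i j).2.2 h)
  hlong := by
    have e : ((cox spinUnit ^ 9 : (Matrix (Fin 8) (Fin 8) (ZMod 3))ˣ) :
        Matrix (Fin 8) (Fin 8) (ZMod 3)) = cox spinMat ^ 9 := by
      rw [← Units.coeHom_apply, map_pow, map_cox]; rfl
    rcases spin_long with h | h
    · exact .inl (Units.ext (e.trans h))
    · exact .inr (Units.ext (e.trans h))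

theorem multiplier {F : Type*} [Field F] [Fintype F] (hF : Fintype.card F = 2) :
    Cfsg.HasCyclicSchurMultiplier (Cfsg.PSp 3 F) 2 := by
  classical
  obtain ⟨D⟩ := exists_presentation hF
  have h2 : Nat.card (Multiplicative (ZMod 2)) = 2 := by simp
  refine ⟨?_, ?_⟩
  · obtain ⟨E, σ, hσ, hk⟩ := exists_cover D spin
    exact ⟨E, inferInstance, inferInstance, σ, hσ,
      ⟨mulEquivOfPrimeCardEq (p := 2) hk h2⟩⟩
  · intro Γ _ _ σ hσ
    obtain ⟨z, hz2, hle⟩ := D.ker_le_zpowers σ hσ
    have hle2 : Nat.card σ.ker ≤ 2 := by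
      refine (Subgroup.card_le_of_le hle).trans ?_
      rw [Nat.card_zpowers]
      exact Nat.le_of_dvd two_pos (orderOf_dvd_of_pow_eq_one (by rw [sq, hz2]))
    haveI : Fact (Nat.Prime 2) := ⟨Nat.prime_two⟩
    have hpos : 0 < Nat.card σ.ker := Nat.card_pos
    interval_cases hc : Nat.card σ.ker
    · haveI := (Nat.card_eq_one_iff_unique.1 hc).1
      exact ⟨1, fun k => ⟨1, Subsingleton.elim _ _⟩⟩
    · exact ⟨(mulEquivOfPrimeCardEq (p := 2) h2 hc).toMonoidHom, MulEquiv.surjective _⟩

end H57.SpSix
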