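import Cfsg.Agent.H57.SpSix.Coxeter

/-! The multiplier of the simple quotient of `W(E₇)` has order two. -/

namespace H57.SpSix

open CoxeterMatrix
open scoped commutatorElement

namespace Pres

variable {S : Type*} [Group S] (D : Pres S) {Γ : Type*} [Group Γ] (σ : Γ →* S)

/-- The tree edges, in breadth first order. -/
theorem tree : cm 0 2 = 3 ∧ cm 2 3 = 3 ∧ cm 3 1 = 3 ∧ cm 3 4 = 3 ∧ cm 4 5 = 3 ∧ cm 5 6 = 3 := by
  decide

theorem conj_t {p i : Fin 7} (h : cm p i = 3) :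
    D.t p * D.t i * D.t p * (D.t p * D.t i)⁻¹ = D.t i := by
  rw [D.hb p i h, mul_inv_eq_iff_eq_mul]
  simp only [mul_assoc]

/-- One step of lifting. -/
theorem exists_next (hsurj : Function.Surjective σ) (hker : σ.ker ≤ Subgroup.center Γ) {p i : Fin 7}
    (h : cm p i = 3) {xp : Γ} (hp : σ xp = D.t p) :
    ∃ xi, σ xi = D.t i ∧ xi * xi = xp * xp ∧ xp * xi * xp = xi * xp * xi := by
  obtain ⟨xi0, hxi0⟩ := hsurj (D.t i)
  let xi := xp * xi0 * xp * (xp * xi0)⁻¹
  have hσ : σ xi = D.t i := by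
    simp only [xi, map_mul, map_inv, hp, hxi0]
    exact D.conj_t h
  have hz : xi⁻¹ * xi0 ∈ Subgroup.center Γ := hker (MonoidHom.mem_ker.2 (by
    rw [map_mul, map_inv, hσ, hxi0, inv_mul_cancel]))
  have hconj : xp * xi * xp * (xp * xi)⁻¹ = xi := by
    have hx : xi0 = xi * (xi⁻¹ * xi0) := by group
    have hgen : ∀ b k : Γ, (∀ g, g * k = k * g) →
        xp * (b * k) * xp * (xp * (b * k))⁻¹ = xp * b * xp * (xp * b)⁻¹ := by
      intro b k hk
      calc xp * (b * k) * xp * (xp * (b * k))⁻¹ = xp * b * (k * xp) * k⁻¹ * (xp * b)⁻¹ := by group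
        _ = xp * b * (xp * k) * k⁻¹ * (xp * b)⁻¹ := by rw [hk xp]
        _ = xp * b * xp * (xp * b)⁻¹ := by group
    calc xp * xi * xp * (xp * xi)⁻¹
        = xp * (xi * (xi⁻¹ * xi0)) * xp * (xp * (xi * (xi⁻¹ * xi0)))⁻¹ :=
          (hgen _ _ (Subgroup.mem_center_iff.1 hz)).symm
      _ = xp * xi0 * xp * (xp * xi0)⁻¹ := by rw [← hx]
      _ = xi := rfl
  clear_value xi
  refine ⟨xi, hσ, ?_, ?_⟩
  · have hsq : ∀ g : Γ, g * (xp * xp) = xp * xp * g := Subgroup.mem_center_iff.1 (hker (MonoidHom.mem_ker.2 (by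
      rw [map_mul, hp, D.hs])))
    calc xi * xi = (xp * xi * xp * (xp * xi)⁻¹) * (xp * xi * xp * (xp * xi)⁻¹) := by rw [hconj]
      _ = xp * xi * (xp * xp) * (xp * xi)⁻¹ := by group
      _ = xp * xp := by rw [hsq, mul_inv_cancel_right]
  · rw [mul_inv_eq_iff_eq_mul] at hconj
    rw [hconj, mul_assoc]

/-- Lifts with a common square and exact braid relations. -/
theorem exists_lifts (hsurj : Function.Surjective σ) (hker : σ.ker ≤ Subgroup.center Γ) :
    ∃ x : Fin 7 → Γ, (∀ i, σ (x i) = D.t i) ∧ (∀ i, x i * x i = x 0 * x 0) ∧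
      ∀ i j, cm i j = 3 → x i * x j * x i = x j * x i * x j := by
  obtain ⟨h02, h23, h31, h34, h45, h56⟩ := tree
  obtain ⟨x0, hx0⟩ := hsurj (D.t 0)
  obtain ⟨x2, hx2, s2, b2⟩ := D.exists_next σ hsurj hker h02 hx0
  obtain ⟨x3, hx3, s3, b3⟩ := D.exists_next σ hsurj hker h23 hx2
  obtain ⟨x1, hx1, s1, b1⟩ := D.exists_next σ hsurj hker h31 hx3
  obtain ⟨x4, hx4, s4, b4⟩ := D.exists_next σ hsurj hker h34 hx3
  obtain ⟨x5, hx5, s5, b5⟩ := D.exists_next σ hsurj hker h45 hx4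
  obtain ⟨x6, hx6, s6, b6⟩ := D.exists_next σ hsurj hker h56 hx5
  refine ⟨![x0, x1, x2, x3, x4, x5, x6], ?_, ?_, ?_⟩
  · intro i; fin_cases i <;> assumption
  · intro i
    fin_cases i
    · rfl
    · exact s1.trans (s3.trans s2)
    · exact s2
    · exact s3.trans s2
    · exact s4.trans (s3.trans s2)
    · exact s5.trans (s4.trans (s3.trans s2))
    · exact s6.trans (s5.trans (s4.trans (s3.trans s2)))
  · have hl : ∀ i j : Fin 7, cm i j = 3 → (i, j) ∈ [((0 : Fin 7), (2 : Fin 7)), (2, 0), (2, 3),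
        (3, 2), (3, 1), (1, 3), (3, 4), (4, 3), (4, 5), (5, 4), (5, 6), (6, 5)] := by decide
    intro i j h
    have := hl i j h
    simp only [List.mem_cons, List.not_mem_nil, or_false, Prod.mk.injEq] at this
    rcases this with h' | h' | h' | h' | h' | h' | h' | h' | h' | h' | h' | h' <;>
      obtain ⟨rfl, rfl⟩ := h' <;>
      first | exact b2 | exact b2.symm | exact b3 | exact b3.symm | exact b1 | exact b1.symm |
        exact b4 | exact b4.symm | exact b5 | exact b5.symm | exact b6 | exact b6.symm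

theorem comm_move (hker : σ.ker ≤ Subgroup.center Γ) {x : Fin 7 → Γ} (hx : ∀ i, σ (x i) = D.t i)
    {i j k : Fin 7} (hij : cm i j = 2) (hik : cm i k = 2) (hjk : cm j k = 3) :
    ⁅x i, x k⁆ = ⁅x i, x j⁆ := by
  let u := x j * x k
  have hd : ⁅x i, x j⁆ ∈ Subgroup.center Γ := hker (MonoidHom.mem_ker.2 (by
    rw [map_commutatorElement, hx, hx]; exact commutatorElement_eq_one_iff_commute.2 (D.hc i j hij)))
  have c1 : σ (u * x i * u⁻¹) = D.t i := by
    simp only [u, map_mul, map_inv, hx]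
    rw [mul_assoc (D.t j), ← D.hc i k hik, ← mul_assoc (D.t j), ← D.hc i j hij, mul_assoc (D.t i),
      mul_inv_cancel_right]
  have c2 : σ (u * x j * u⁻¹) = D.t k := by
    simp only [u, map_mul, map_inv, hx]
    exact D.conj_t hjk
  have hcen : ∀ {a b : Γ}, σ a = σ b → ∃ c, (∀ g, g * c = c * g) ∧ b = a * c := fun {a b} e =>
    ⟨a⁻¹ * b, Subgroup.mem_center_iff.1 (hker (MonoidHom.mem_ker.2 (by
      rw [map_mul, map_inv, e, inv_mul_cancel]))), by group⟩
  obtain ⟨a, ha, ea⟩ := hcen (c1.trans (hx i).symm)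
  obtain ⟨b, hb, eb⟩ := hcen (c2.trans (hx k).symm)
  refine Eq.trans (congrArg₂ (fun g g' : Γ => ⁅g, g'⁆) ea eb) ?_
  show ⁅u * x i * u⁻¹ * a, u * x j * u⁻¹ * b⁆ = ⁅x i, x j⁆
  rw [commutator_eq_of_central ha hb]
  calc ⁅u * x i * u⁻¹, u * x j * u⁻¹⁆ = u * ⁅x i, x j⁆ * u⁻¹ := by
        simp only [commutatorElement_def]; group
    _ = ⁅x i, x j⁆ := by rw [Subgroup.mem_center_iff.1 hd u, mul_inv_cancel_right]

theorem comm_swap (hker : σ.ker ≤ Subgroup.center Γ) {x : Fin 7 → Γ} (hx : ∀ i, σ (x i) = D.t i)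
    {i j : Fin 7} (hij : cm i j = 2) :
    ⁅x i, x j⁆ * ⁅x i, x j⁆ = 1 ∧ ⁅x j, x i⁆ = ⁅x i, x j⁆ := by
  have hd : ⁅x i, x j⁆ ∈ Subgroup.center Γ := hker (MonoidHom.mem_ker.2 (by
    rw [map_commutatorElement, hx, hx]; exact commutatorElement_eq_one_iff_commute.2 (D.hc i j hij)))
  have hsq : x j * x j ∈ Subgroup.center Γ := hker (MonoidHom.mem_ker.2 (by rw [map_mul, hx, D.hs]))
  set d := ⁅x i, x j⁆ with hdd
  have e : x i * x j * (x i)⁻¹ = d * x j := by rw [hdd, commutatorElement_def, inv_mul_cancel_right]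
  have h1 : d * d = 1 := by
    have e2 : x i * (x j * x j) * (x i)⁻¹ = (d * x j) * (d * x j) := by rw [← e]; group
    rw [Subgroup.mem_center_iff.1 hsq, mul_inv_cancel_right] at e2
    have e3 : d * x j * (d * x j) = d * d * (x j * x j) := by
      rw [mul_assoc d, ← mul_assoc (x j) d, Subgroup.mem_center_iff.1 hd (x j)]
      simp only [mul_assoc]
    rw [e3] at e2
    exact mul_eq_right.1 e2.symm
  refine ⟨h1, ?_⟩
  rw [← commutatorElement_inv, ← hdd, inv_eq_of_mul_eq_one_right h1]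

include D in
/-- The kernel of a stem extension is generated by one involution. -/
theorem ker_le_zpowers [Finite Γ] (hσ : Cfsg.IsStemExtension σ) :
    ∃ z : Γ, z * z = 1 ∧ σ.ker ≤ Subgroup.zpowers z := by
  obtain ⟨hsurj, hker, hstem⟩ := hσ
  obtain ⟨x, hx, hsq, hbr⟩ := D.exists_lifts σ hsurj hker
  let z := ⁅x 0, x 1⁆
  have h01 : cm 0 1 = 2 := by decide
  have sw := fun {i j : Fin 7} (h : cm i j = 2) => D.comm_swap σ hker hx h
  have mv := fun {i j k : Fin 7} (h1 : cm i j = 2) (h2 : cm i k = 2) (h3 : cm j k = 3) =>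
    D.comm_move σ hker hx h1 h2 h3
  have z01 : ⁅x 0, x 1⁆ = z := rfl
  have z10 : ⁅x 1, x 0⁆ = z := (sw h01).2
  have z03 : ⁅x 0, x 3⁆ = z := (mv (i := 0) (j := 1) (k := 3) (by decide) (by decide) (by decide)).trans z01
  have z30 : ⁅x 3, x 0⁆ = z := (sw (i := 0) (j := 3) (by decide)).2.trans z03
  have z12 : ⁅x 1, x 2⁆ = z := (mv (i := 1) (j := 0) (k := 2) (by decide) (by decide) (by decide)).trans z10
  have z21 : ⁅x 2, x 1⁆ = z := (sw (i := 1) (j := 2) (by decide)).2.trans z12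
  have z04 : ⁅x 0, x 4⁆ = z := (mv (i := 0) (j := 3) (k := 4) (by decide) (by decide) (by decide)).trans z03
  have z40 : ⁅x 4, x 0⁆ = z := (sw (i := 0) (j := 4) (by decide)).2.trans z04
  have z05 : ⁅x 0, x 5⁆ = z := (mv (i := 0) (j := 4) (k := 5) (by decide) (by decide) (by decide)).trans z04
  have z50 : ⁅x 5, x 0⁆ = z := (sw (i := 0) (j := 5) (by decide)).2.trans z05
  have z42 : ⁅x 4, x 2⁆ = z := (mv (i := 4) (j := 0) (k := 2) (by decide) (by decide) (by decide)).trans z40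
  have z24 : ⁅x 2, x 4⁆ = z := (sw (i := 4) (j := 2) (by decide)).2.trans z42
  have z06 : ⁅x 0, x 6⁆ = z := (mv (i := 0) (j := 5) (k := 6) (by decide) (by decide) (by decide)).trans z05
  have z60 : ⁅x 6, x 0⁆ = z := (sw (i := 0) (j := 6) (by decide)).2.trans z06
  have z52 : ⁅x 5, x 2⁆ = z := (mv (i := 5) (j := 0) (k := 2) (by decide) (by decide) (by decide)).trans z50
  have z25 : ⁅x 2, x 5⁆ = z := (sw (i := 5) (j := 2) (by decide)).2.trans z52
  have z62 : ⁅x 6, x 2⁆ = z := (mv (i := 6) (j := 0) (k := 2) (by decide) (by decide) (by decide)).trans z60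
  have z26 : ⁅x 2, x 6⁆ = z := (sw (i := 6) (j := 2) (by decide)).2.trans z62
  have z53 : ⁅x 5, x 3⁆ = z := (mv (i := 5) (j := 2) (k := 3) (by decide) (by decide) (by decide)).trans z52
  have z35 : ⁅x 3, x 5⁆ = z := (sw (i := 5) (j := 3) (by decide)).2.trans z53
  have z63 : ⁅x 6, x 3⁆ = z := (mv (i := 6) (j := 2) (k := 3) (by decide) (by decide) (by decide)).trans z62
  have z36 : ⁅x 3, x 6⁆ = z := (sw (i := 6) (j := 3) (by decide)).2.trans z63
  have z51 : ⁅x 5, x 1⁆ = z := (mv (i := 5) (j := 3) (k := 1) (by decide) (by decide) (by decide)).trans z53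
  have z15 : ⁅x 1, x 5⁆ = z := (sw (i := 5) (j := 1) (by decide)).2.trans z51
  have z61 : ⁅x 6, x 1⁆ = z := (mv (i := 6) (j := 3) (k := 1) (by decide) (by decide) (by decide)).trans z63
  have z16 : ⁅x 1, x 6⁆ = z := (sw (i := 6) (j := 1) (by decide)).2.trans z61
  have z64 : ⁅x 6, x 4⁆ = z := (mv (i := 6) (j := 3) (k := 4) (by decide) (by decide) (by decide)).trans z63
  have z46 : ⁅x 4, x 6⁆ = z := (sw (i := 6) (j := 4) (by decide)).2.trans z64
  have z14 : ⁅x 1, x 4⁆ = z := (mv (i := 1) (j := 5) (k := 4) (by decide) (by decide) (by decide)).trans z15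
  have z41 : ⁅x 4, x 1⁆ = z := (sw (i := 1) (j := 4) (by decide)).2.trans z14
  have hcomm : ∀ i j, cm i j = 2 → ⁅x i, x j⁆ = z := by
    have hl : ∀ i j : Fin 7, cm i j = 2 → (i, j) ∈ [((0 : Fin 7), (1 : Fin 7)), (0, 3), (0, 4), (0, 5), (0, 6), (1, 0), (1, 2), (1, 4), (1, 5), (1, 6), (2, 1), (2, 4), (2, 5), (2, 6), (3, 0), (3, 5), (3, 6), (4, 0), (4, 1), (4, 2), (4, 6), (5, 0), (5, 1), (5, 2), (5, 3), (6, 0), (6, 1), (6, 2), (6, 3), (6, 4)] := by decide
    intro i j h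
    have := hl i j h
    simp only [List.mem_cons, List.not_mem_nil, or_false, Prod.mk.injEq] at this
    rcases this with h' | h' | h' | h' | h' | h' | h' | h' | h' | h' | h' | h' | h' | h' | h' | h' | h' | h' | h' | h' | h' | h' | h' | h' | h' | h' | h' | h' | h' | h' <;> obtain ⟨rfl, rfl⟩ := h' <;>
      first | exact z01 | exact z03 | exact z04 | exact z05 | exact z06 | exact z10 | exact z12 | exact z14 | exact z15 | exact z16 | exact z21 | exact z24 | exact z25 | exact z26 | exact z30 | exact z35 | exact z36 | exact z40 | exact z41 | exact z42 | exact z46 | exact z50 | exact z51 | exact z52 | exact z53 | exact z60 | exact z61 | exact z62 | exact z63 | exact z64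
  have hzk : z ∈ σ.ker := MonoidHom.mem_ker.2 (by
    rw [map_commutatorElement, hx, hx]; exact commutatorElement_eq_one_iff_commute.2 (D.hc 0 1 h01))
  let c := x 0 * x 0
  have hck : c ∈ σ.ker := MonoidHom.mem_ker.2 (by rw [map_mul, hx, D.hs])
  refine ⟨z, (sw h01).1, ?_⟩
  let e : Γ →* Γ × Multiplicative ℤ := MonoidHom.inl Γ (Multiplicative ℤ)
  let gc : Γ × Multiplicative ℤ := (c, Multiplicative.ofAdd 2)
  let gz : Γ × Multiplicative ℤ := (z, 1)
  have hcen : ∀ k ∈ σ.ker, ∀ m : Multiplicative ℤ, (k, m) ∈ Subgroup.center (Γ × Multiplicative ℤ) := by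
    intro k hk m
    rw [Subgroup.mem_center_iff]
    intro g
    exact Prod.ext (Subgroup.mem_center_iff.1 (hker hk) g.1) (mul_comm _ _)
  let N : Subgroup (Γ × Multiplicative ℤ) := Subgroup.zpowers gc ⊔ Subgroup.zpowers gz
  have hNc : N ≤ Subgroup.center _ :=
    sup_le (Subgroup.zpowers_le.2 (hcen _ hck _)) (Subgroup.zpowers_le.2 (hcen _ hzk _))
  haveI : N.Normal := ⟨fun n hn g => by
    rw [Subgroup.mem_center_iff.1 (hNc hn) g, mul_inv_cancel_right]; exact hn⟩
  have hNσ : N ≤ (σ.comp (MonoidHom.fst Γ (Multiplicative ℤ))).ker := by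
    refine sup_le (Subgroup.zpowers_le.2 ?_) (Subgroup.zpowers_le.2 ?_)
    · exact MonoidHom.mem_ker.2 (MonoidHom.mem_ker.1 hck)
    · exact MonoidHom.mem_ker.2 (MonoidHom.mem_ker.1 hzk)
  let q := QuotientGroup.mk' N
  let y : Fin 7 → Γ × Multiplicative ℤ := fun i => (x i, Multiplicative.ofAdd 1)
  have hys : ∀ i, q (y i) * q (y i) = 1 := fun i => by
    rw [← map_mul, QuotientGroup.mk'_apply, QuotientGroup.eq_one_iff]
    refine Subgroup.mem_sup_left ?_
    rw [show y i * y i = gc from Prod.ext (hsq i) rfl]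
    exact Subgroup.mem_zpowers _
  have hyc : ∀ i j, cm i j = 2 → q (y i) * q (y j) = q (y j) * q (y i) := fun i j h => by
    have hN : ⁅y i, y j⁆ ∈ N := Subgroup.mem_sup_right (by
      rw [show ⁅y i, y j⁆ = gz from Prod.ext (hcomm i j h) (by
        show ⁅(Multiplicative.ofAdd (1 : ℤ)), (Multiplicative.ofAdd (1 : ℤ))⁆ = 1
        simp [commutatorElement_def])]
      exact Subgroup.mem_zpowers _)
    have := (QuotientGroup.eq_one_iff _).2 hN
    rw [← QuotientGroup.mk'_apply, map_commutatorElement] at this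
    exact (commutatorElement_eq_one_iff_commute.1 this).eq
  have hyb : ∀ i j, cm i j = 3 → q (y i) * q (y j) * q (y i) = q (y j) * q (y i) * q (y j) :=
    fun i j h => by
    simp only [← map_mul]
    exact congrArg q (Prod.ext (hbr i j h) rfl)
  let ψ : W →* (Γ × Multiplicative ℤ) ⧸ N :=
    liftW (fun i => q (y i)) (liftable hys hyc hyb)
  let τ : (Γ × Multiplicative ℤ) ⧸ N →* S := QuotientGroup.lift N _ hNσ
  have hτψ : ∀ w, τ (ψ w) = D.phi w := by
    intro w
    refine DFunLike.congr_fun (hom_ext (f := τ.comp ψ) (g := D.phi) fun i => ?_) w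
    show τ (ψ (s i)) = D.phi (s i)
    rw [D.phi_simple, show ψ (s i) = q (y i) from liftW_simple _ _ _]
    exact hx i
  have hlift : ∀ g : Γ, ∃ w : W, ∃ k ∈ σ.ker, ∃ a, ψ w = q (g * k, a) := by
    intro g
    obtain ⟨w, hw⟩ := D.phi_surjective (σ g)
    obtain ⟨⟨g', a⟩, hg'⟩ := QuotientGroup.mk'_surjective N (ψ w)
    refine ⟨w, g⁻¹ * g', ?_, a, ?_⟩
    · rw [MonoidHom.mem_ker, map_mul, map_inv, ← hw, ← hτψ w, ← hg']
      exact inv_mul_cancel _
    · rw [mul_inv_cancel_left, ← hg']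
  let T : Subgroup Γ := ((ψ.comp sgnHom.ker.subtype).range.comap (q.comp e))
  have hT : ⊤ ≤ T := by
    have hperf : commutator Γ = ⊤ := by
      rw [eq_top_iff]
      intro g _
      have hg : σ g ∈ (commutator Γ).map σ := by
        rw [commutator_def, Subgroup.map_commutator, Subgroup.map_top_of_surjective σ hsurj, ← commutator_def,
          D.hperf]
        trivial
      obtain ⟨g', hg', e'⟩ := hg
      have : g'⁻¹ * g ∈ σ.ker := by rw [MonoidHom.mem_ker, map_mul, map_inv, e', inv_mul_cancel]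
      simpa using mul_mem hg' (hstem this)
    rw [← hperf, commutator_def, Subgroup.commutator_le]
    intro g₁ _ g₂ _
    obtain ⟨w₁, k₁, hk₁, a₁, e₁⟩ := hlift g₁
    obtain ⟨w₂, k₂, hk₂, a₂, e₂⟩ := hlift g₂
    refine ⟨⟨⁅w₁, w₂⁆, MonoidHom.mem_ker.2 ?_⟩, ?_⟩
    · rw [map_commutatorElement]
      exact commutatorElement_eq_one_iff_commute.2 (Commute.all _ _)
    · show ψ ⁅w₁, w₂⁆ = q (e ⁅g₁, g₂⁆)
      rw [map_commutatorElement, e₁, e₂, ← map_commutatorElement]
      refine congrArg q (Prod.ext ?_ ?_)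
      · exact commutator_eq_of_central (Subgroup.mem_center_iff.1 (hker hk₁)) (Subgroup.mem_center_iff.1 (hker hk₂))
      · show ⁅a₁, a₂⁆ = 1
        exact commutatorElement_eq_one_iff_commute.2 (Commute.all _ _)
  intro k hk
  obtain ⟨⟨w, hw⟩, hwk⟩ := hT (Subgroup.mem_top k)
  have hw1 : w = 1 := D.eq_one_of_even (MonoidHom.mem_ker.1 hw) (by
    rw [← hτψ, show ψ w = q (e k) from hwk]
    exact MonoidHom.mem_ker.1 hk)
  have hkN : e k ∈ N := by
    rw [← QuotientGroup.eq_one_iff]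
    show q (e k) = 1
    rw [← show ψ w = q (e k) from hwk, hw1, map_one]
  haveI : (Subgroup.zpowers gz).Normal := ⟨fun n hn g => by
    rw [Subgroup.mem_center_iff.1 (Subgroup.zpowers_le.2 (hcen _ hzk _) hn) g, mul_inv_cancel_right]
    exact hn⟩
  obtain ⟨u, hu, v, hv, huv⟩ := Subgroup.mem_sup_of_normal_right.1 (show e k ∈
    Subgroup.zpowers gc ⊔ Subgroup.zpowers gz from hkN)
  obtain ⟨a, rfl⟩ := Subgroup.mem_zpowers_iff.1 hu
  obtain ⟨b, rfl⟩ := Subgroup.mem_zpowers_iff.1 hv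
  have h2 := congrArg Prod.snd huv
  simp [e, gc, gz, ← ofAdd_zsmul] at h2
  subst h2
  have h1 := congrArg Prod.fst huv
  simp [e, gc, gz] at h1
  exact h1 ▸ Subgroup.zpow_mem _ (Subgroup.mem_zpowers z) b

end Pres

end H57.SpSix
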